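import Mathlib
import Cfsg.Agent.H270.NR.Tools

/-!
# The facts on the prime graph of `PΩ⁻_2n(q)` needed for `Good` (S3440, helper270)
-/

set_option autoImplicit false
set_option linter.unusedSectionVars false
set_option linter.style.haveILetI false

namespace Cfsg.Agent.H270.NR

open Module Cfsg Matrix QuadraticMap
open Cfsg.Agent.H390.NonAdj Cfsg.Agent.H390.Dec
open Cfsg.Agent.LieClassical.OrthCount Cfsg.Agent.LieClassical.OmegaReindex Cfsg.Agent.LieClassical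
open Cfsg.Agent.H150 (isCompl_fix ND restrict_pow_eq_one range_inv eq_one_of_restrict quadMinus_sing gen_partial_even)
open Cfsg.Agent.H390 (split_prime psp_nonadj data_of na_pomega pomega_nonadj minus_f2 prim_cond dvd_of_gcd_mul
  dvd_of_eta natCast_ne_zero eta_even exists_lin_of_order zeros_minus_irr pow_dvd_add_one dvd_of_orderOf)

/-- the facts -/
structure MF (L : Type*) [Group L] (q n p : ℕ) : Prop where
  hna : H390.NA L q n
  hdiv : ∀ r e η : ℕ, r.Prime → orderOf (q : ZMod r) = e → 3 ≤ e → IsEta e η → η ≤ n - 1 → r ∣ Nat.card L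
  hdiv' : ∀ r : ℕ, r.Prime → orderOf (q : ZMod r) = 2 * n → r ∣ Nat.card L
  pdiv : p ∣ Nat.card L
  primes : ∀ r : ℕ, r.Prime → r ∣ Nat.card L → r = p ∨ ∃ i, 1 ≤ i ∧ i ≤ n ∧ orderOf (q : ZMod r) ∣ 2 * i
  hA : ∀ r s η : ℕ, r.Prime → s.Prime → s ≠ 2 → s ≠ p → orderOf (q : ZMod r) = 2 * n → r ≠ s →
    IsEta (orderOf (q : ZMod s)) η → 1 ≤ η → η ≤ n → (¬ ∃ t, Odd t ∧ 2 * n = orderOf (q : ZMod s) * t) →
    ∀ g : L, orderOf g ≠ r * s
  hB : ∀ r s : ℕ, r.Prime → s.Prime → s ≠ 2 → s ≠ p → orderOf (q : ZMod r) = 2 * (n - 1) →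
    orderOf (q : ZMod s) = 2 → Odd n → ∀ g : L, orderOf g ≠ r * s
  pA : p ≠ 2 → ∀ r : ℕ, r.Prime → orderOf (q : ZMod r) = 2 * n → ∀ g : L, orderOf g ≠ r * p
  pB : p ≠ 2 → ∀ r : ℕ, r.Prime → orderOf (q : ZMod r) = 2 * (n - 1) → ∀ g : L, orderOf g ≠ r * p
  twoA : (q % 4 ≠ 3 ∨ Even n) → ∀ r : ℕ, r.Prime → orderOf (q : ZMod r) = 2 * n → ∀ g : L, orderOf g ≠ 2 * r
  twoB : ((Odd n ∧ q % 4 ≠ 1) ∨ q % 2 = 0) → ∀ r : ℕ, r.Prime → orderOf (q : ZMod r) = 2 * (n - 1) →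
    ∀ g : L, orderOf g ≠ 2 * r
  twoC : q % 2 = 0 → n = 4 → ∀ r : ℕ, r.Prime → orderOf (q : ZMod r) = 3 → ∀ g : L, orderOf g ≠ 2 * r

theorem mf_minus {F : Type} [Field F] [Fintype F] {n p : ℕ} (hp : p.Prime) (hpF : CharP F p) (hn : 4 ≤ n) (a b : F)
    (hab : ∀ z₁ z₂ : F, z₁ ^ 2 + a * z₁ * z₂ + b * z₂ ^ 2 = 0 → z₁ = 0 ∧ z₂ = 0) :
    MF (POmega F (quadFormMinus (n - 1) F a b)) (Nat.card F) n p := by
  haveI := Fact.mk hp
  have hp0 : ((p : ℕ) : F) = 0 := CharP.cast_eq_zero F p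
  have hq : Nat.card F = Fintype.card F := Nat.card_eq_fintype_card
  have hq1 : 1 < Nat.card F := Finite.one_lt_card
  have hcard : Fintype.card ((Fin (n - 1) ⊕ Fin (n - 1)) ⊕ Fin 2) = 2 * n := by simp; omega
  have hord := Cfsg.Agent.S0294.result (F := F) rfl n hn a b hab
  have hz := Cfsg.Agent.S0290.result (F := F) rfl n (by omega) a b hab
  have hD : H390.Lift.Data (quadMinus (n - 1) F a b) := data_of _ (quadMinus_nondegenerate hab) (by rw [hcard]; omega)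
    (quadMinus_isotropic (by omega) a b) (Or.inr (by rw [hcard]; omega))
  have hfA : (Nat.card F % 4 ≠ 3 ∨ Even n) → _ := fun h => minus_f2 hn a b hab (Or.inl ⟨rfl, h⟩)
  have hfB : ((Odd n ∧ Nat.card F % 4 ≠ 1) ∨ Nat.card F % 2 = 0) → _ := fun h => minus_f2 hn a b hab (Or.inr ⟨rfl, h⟩)
  have hnd := quadMinus_nondegenerate (m := n - 1) (F := F) hab
  have hs := quadMinus_sing (F := F) (n := n - 1) (by omega) a b
  rw [← coe_quadMinus] at hord hfA hfB hz ⊢
  rw [← hq] at hz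
  have hdim : finrank F ((Fin (n - 1) ⊕ Fin (n - 1)) ⊕ Fin 2 → F) = 2 * n := by
    rw [Module.finrank_fintype_fun_eq_card, hcard]
  have hdiv' : ∀ r : ℕ, r.Prime → orderOf ((Nat.card F : ℕ) : ZMod r) = 2 * n →
      r ∣ Nat.card (POmega F ⇑(quadMinus (n - 1) F a b)) := by
    intro r hr he
    obtain ⟨hr2, hr3, hrq, -, -⟩ := prim_cond hr he (by omega)
    refine dvd_of_gcd_mul hr hr2 hord (dvd_mul_of_dvd_left (dvd_mul_of_dvd_right ?_ _) _)
    have h1 := pow_dvd_add_one (a := 1) hr hq1.le (by omega) he (by rw [pow_one]; exact dvd_of_orderOf hq1.le he dvd_rfl)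
    rwa [pow_one, hq] at h1
  have hpq : p ∣ Nat.card F := by
    obtain ⟨f, -, hf⟩ := FiniteField.card F p
    rw [hq, hf]
    exact dvd_pow_self _ (PNat.ne_zero f)
  have hsF : ∀ {s : ℕ}, s.Prime → s ≠ p → ((s : ℕ) : F) ≠ 0 := by
    intro s hs hsp h0
    rw [CharP.cast_eq_zero_iff F p] at h0
    exact hsp (((Nat.dvd_prime hs).1 h0).resolve_left hp.one_lt.ne').symm
  refine ⟨na_pomega hD (n := n) (by rw [hcard]; omega), ?_, hdiv', ?_, ?_, ?_, ?_, ?_, ?_, fun h => (fun r hr he => (hfA h).f1 r hr he),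
    fun h => (fun r hr he => (hfB h).f1 r hr he), ?_⟩
  · intro r e η hr he h3 hη hle
    obtain ⟨hr2, hr3, hrq, -, -⟩ := prim_cond hr he h3
    refine dvd_of_gcd_mul hr hr2 hord (dvd_mul_of_dvd_right ?_ _)
    rw [← hq]
    exact dvd_of_eta hq1.le he hη (hη.ne (by omega)) hle
  · have h1 : p ∣ Nat.gcd 4 (Fintype.card F ^ n + 1) * Nat.card (POmega F ⇑(quadMinus (n - 1) F a b)) := by
      rw [hord, mul_assoc]
      apply Dvd.dvd.mul_right
      rw [← hq]
      exact dvd_pow hpq (Nat.mul_ne_zero (by omega) (by omega))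
    rcases hp.dvd_mul.1 h1 with h2 | h2
    · exfalso
      have h3 := h2.trans (Nat.gcd_dvd_right _ _)
      rw [← hq] at h3
      have h4 : p ∣ Nat.card F ^ n := dvd_pow hpq (by omega)
      have h5 := (Nat.dvd_add_right h4).1 h3
      exact hp.one_lt.ne' (Nat.dvd_one.1 h5)
    · exact h2
  · intro r hr hrL
    have h1 : r ∣ Nat.card F ∨ ∃ i, 1 ≤ i ∧ i ≤ n ∧ r ∣ Nat.card F ^ (2 * i) - 1 := by
      by_cases h : Nat.card F % 4 ≠ 3 ∨ Even n
      · exact (hfA h).f3 r hr hrL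
      · push Not at h
        exact (hfB (Or.inl ⟨Nat.not_even_iff_odd.1 h.2, by omega⟩)).f3 r hr hrL
    rcases h1 with h1 | ⟨i, h1, h2, h3⟩
    · left
      by_contra hcon
      exact (natCast_ne_zero_iff (F := F) hr).1 (hsF hr hcon) h1
    · exact Or.inr ⟨i, h1, h2, (Cfsg.Agent.Lib.Zsigmondy.dvd_pow_sub_one_iff hq1.le _).1 h3⟩
  · intro r s η hr hs hs2 hsp he hrs hη h1 hle hrat
    obtain ⟨hr2, hr3, hrq, -, -⟩ := prim_cond hr he (by omega)
    have hrF := natCast_ne_zero (F := F) hr hrq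
    exact pomega_nonadj hD hr hs hr2 hs2 hrs hrF (hsF hs hsp) he rfl (eta_even n) hη h1 hle (by omega)
      (fun h => by omega) (by rw [hcard]; omega) hrat
  · intro r s hr hs hs2 hsp he hes hodd g hg
    obtain ⟨hr2, hr3, hrq, -, -⟩ := prim_cond hr he (by omega)
    have hrF := natCast_ne_zero (F := F) hr hrq
    have hrs : r ≠ s := by
      rintro rfl
      omega
    obtain ⟨T, h1, h2⟩ := exists_lin_of_order hD ((hr.odd_of_ne_two hr2).mul (hs.odd_of_ne_two hs2)) ⟨g, hg⟩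
    refine no_plus_sub (quadMinus (n - 1) F a b) hD.ND (m := n - 1) (by omega) ?_ (by rw [hdim]; omega) hr hs hr2 hs2
      hrs hrF (hsF hs hsp) he hes ?_ T h1 h2
    · obtain ⟨t, ht⟩ := hodd
      exact ⟨t, by omega⟩
    · rw [hz]
      exact zeros_minus_irr hr (by omega) (by omega) he
  · intro hp2 r hr he g hg
    obtain ⟨hr2, hr3, hrq, -, -⟩ := prim_cond hr he (by omega)
    have hrF := natCast_ne_zero (F := F) hr hrq
    obtain ⟨T, h1, h2⟩ := exists_lin_of_order hD ((hr.odd_of_ne_two hr2).mul (hp.odd_of_ne_two hp2)) ⟨g, hg⟩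
    exact no_char_top (quadMinus (n - 1) F a b) hD.ND (by omega) hdim hp hp0 hr hr2 hrF he (eta_even n) T h1 h2
  · intro hp2 r hr he g hg
    obtain ⟨hr2, hr3, hrq, -, -⟩ := prim_cond hr he (by omega)
    have hrF := natCast_ne_zero (F := F) hr hrq
    obtain ⟨T, h1, h2⟩ := exists_lin_of_order hD ((hr.odd_of_ne_two hr2).mul (hp.odd_of_ne_two hp2)) ⟨g, hg⟩
    have h20 : (2 : F) ≠ 0 := by
      have := hsF Nat.prime_two (Ne.symm hp2)
      exact_mod_cast this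
    exact no_char_sub h20 (quadMinus (n - 1) F a b) hD.ND (m := n - 1) (by omega) (by rw [hdim]; omega) hp hp0 hr hr2
      hrF he (eta_even (n - 1)) T h1 h2
  · rintro h hn4 r hr he
    obtain ⟨hr2, hr3, hrq, -, -⟩ := prim_cond hr he (by omega)
    have hrF := natCast_ne_zero (F := F) hr hrq
    have h2 : (2 : F) = 0 := by
      by_contra h20
      have := H390.mod_four_of_odd h20
      omega
    exact gen_partial_even h2 (quadMinus (n - 1) F a b) hnd hdim hs hr hr2 hrF hn he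
      (Or.inl ⟨by decide, by omega⟩)

end Cfsg.Agent.H270.NR
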